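import Mathlib
import Groth.Agent.Lib.Helper5.TwoTerm.TSOrth

open CategoryTheory Category Limits Pretriangulated DerivedCategory Triangulated

universe w w' v v' u u'

namespace Helper5.DCat

section general

variable {C : Type u} [Category.{v} C] [Preadditive C] [HasZeroObject C] [HasShift C ℤ]
  [∀ n : ℤ, (shiftFunctor C n).Additive] [Pretriangulated C]
  {D : Type u'} [Category.{v'} D] [Preadditive D] [HasZeroObject D] [HasShift D ℤ]
  [∀ n : ℤ, (shiftFunctor D n).Additive] [Pretriangulated D]
  {F G : C ⥤ D} [F.CommShift ℤ] [G.CommShift ℤ] [F.IsTriangulated] [G.IsTriangulated]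
  (η : F ⟶ G) [NatTrans.CommShift η ℤ]

/-- The morphism of triangles induced by a natural transformation of triangulated functors. -/
def mapTriangleHom (T : Triangle C) : F.mapTriangle.obj T ⟶ G.mapTriangle.obj T where
  hom₁ := η.app T.obj₁
  hom₂ := η.app T.obj₂
  hom₃ := η.app T.obj₃
  comm₁ := η.naturality T.mor₁
  comm₂ := η.naturality T.mor₂
  comm₃ := by
    change (F.map T.mor₃ ≫ (F.commShiftIso (1 : ℤ)).hom.app T.obj₁) ≫ (η.app T.obj₁)⟦(1 : ℤ)⟧' =
      η.app T.obj₃ ≫ G.map T.mor₃ ≫ (G.commShiftIso (1 : ℤ)).hom.app T.obj₁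
    rw [assoc, NatTrans.shift_app_comm η (1 : ℤ) T.obj₁, NatTrans.naturality_assoc]

lemma isIso_app_obj₂ (T : Triangle C) (hT : T ∈ distTriang C) (h₁ : IsIso (η.app T.obj₁))
    (h₃ : IsIso (η.app T.obj₃)) : IsIso (η.app T.obj₂) :=
  isIso₂_of_isIso₁₃ (mapTriangleHom η T) (F.map_distinguished T hT) (G.map_distinguished T hT)
    h₁ h₃

lemma isIso_app_shift (X : C) (n : ℤ) (h : IsIso (η.app X)) : IsIso (η.app (X⟦n⟧)) := by
  rw [NatTrans.app_shift η n X]
  infer_instance

lemma isIso_app_of_isZero (X : C) (hX : IsZero X) : IsIso (η.app X) := by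
  have h1 : IsZero (F.obj X) := F.map_isZero hX
  have h2 : IsZero (G.obj X) := G.map_isZero hX
  exact ⟨0, h1.eq_of_src _ _, h2.eq_of_src _ _⟩

end general

section derived

variable {A : Type u} [Category.{v} A] [Abelian A] [HasDerivedCategory.{w} A]
  {B : Type u'} [Category.{v'} B] [Abelian B] [HasDerivedCategory.{w'} B]
  (P : ObjectProperty A) [P.IsClosedUnderIsomorphisms]
  {F G : DerivedCategory A ⥤ DerivedCategory B} [F.CommShift ℤ] [G.CommShift ℤ]
  [F.IsTriangulated] [G.IsTriangulated] (η : F ⟶ G) [NatTrans.CommShift η ℤ]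

include P in
lemma isIso_app_singleFunctor
    (hη : ∀ X : A, P X → IsIso (η.app ((DerivedCategory.singleFunctor A 0).obj X)))
    (X : A) (hX : P X) (n : ℤ) : IsIso (η.app ((DerivedCategory.singleFunctor A n).obj X)) := by
  have e : ((DerivedCategory.singleFunctor A 0).obj X)⟦(-n : ℤ)⟧ ≅
      (DerivedCategory.singleFunctor A n).obj X :=
    ((singleFunctors A).shiftIso (-n) n 0 (by lia)).app X
  rw [← NatTrans.isIso_app_iff_of_iso η e]
  exact isIso_app_shift η _ _ (hη X hX)

/-- If `X` lies in `D^{[n,n]}` and `Hⁿ(X)` satisfies `P` then `η_X` is an isomorphism. -/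
lemma isIso_app_of_heart
    (hη : ∀ X : A, P X → IsIso (η.app ((DerivedCategory.singleFunctor A 0).obj X)))
    (X : DerivedCategory A) (n : ℤ) [X.IsGE n] [X.IsLE n]
    (hX : P ((DerivedCategory.homologyFunctor A n).obj X)) : IsIso (η.app X) := by
  obtain ⟨Y, ⟨e⟩⟩ := exists_iso_singleFunctor_obj_of_isGE_of_isLE X n
  rw [NatTrans.isIso_app_iff_of_iso η e]
  refine isIso_app_singleFunctor P η hη Y ?_ n
  exact P.prop_of_iso ((homologyFunctor A n).mapIso e ≪≫
    (singleFunctorCompHomologyFunctorIso A n).app Y) hX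

include P in
/-- `P` holds for zero objects as soon as it holds for all cohomology objects of a bounded above
object. -/
lemma prop_of_isZero_of_isLE (X : DerivedCategory A) (b : ℤ) [X.IsLE b]
    (hX : ∀ i : ℤ, P ((DerivedCategory.homologyFunctor A i).obj X)) (Z : A) (hZ : IsZero Z) :
    P Z :=
  P.prop_of_iso ((isZero_of_isLE X b (b + 1) (by lia)).iso hZ) (hX (b + 1))

/-- Homology of `τ_{<b}`. -/
lemma prop_homology_truncLT (X : DerivedCategory A) (b : ℤ)
    (hX : ∀ i : ℤ, P ((DerivedCategory.homologyFunctor A i).obj X))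
    (h0 : ∀ Z : A, IsZero Z → P Z) (i : ℤ) :
    P ((DerivedCategory.homologyFunctor A i).obj
      (((TStructure.t : TStructure (DerivedCategory A)).truncLT b).obj X)) := by
  let t : TStructure (DerivedCategory A) := TStructure.t
  have hT := t.triangleLTGE_distinguished b X
  by_cases hi : i < b
  · have hB : ((t.truncGE b).obj X).IsGE b := inferInstanceAs (t.IsGE ((t.truncGE b).obj X) b)
    have : IsIso ((homologyFunctor A i).map ((t.truncLTι b).app X)) :=
      Helper5.TwoTerm.isIso_homologyMap_mor₁ _ hT (i - 1) i (by lia)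
        (isZero_of_isGE ((t.truncGE b).obj X) b (i - 1) (by lia))
        (isZero_of_isGE ((t.truncGE b).obj X) b i (by lia))
    exact P.prop_of_iso (asIso ((homologyFunctor A i).map ((t.truncLTι b).app X))).symm (hX i)
  · have hA : ((t.truncLT b).obj X).IsLE (b - 1) :=
      inferInstanceAs (t.IsLE ((t.truncLT b).obj X) (b - 1))
    exact h0 _ (isZero_of_isLE ((t.truncLT b).obj X) (b - 1) i (by lia))

theorem isIso_app_of_bounded
    (hη : ∀ X : A, P X → IsIso (η.app ((DerivedCategory.singleFunctor A 0).obj X)))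
    (d : ℕ) : ∀ (X : DerivedCategory A) (a b : ℤ) [X.IsGE a] [X.IsLE b] (_ : b - a < d)
      (_ : ∀ i : ℤ, P ((DerivedCategory.homologyFunctor A i).obj X)), IsIso (η.app X) := by
  induction d with
  | zero =>
    intro X a b _ _ hab hX
    exact isIso_app_of_isZero η X (TStructure.t.isZero X b a (by lia))
  | succ d ih =>
    intro X a b _ _ hab hX
    by_cases hba : b < a
    · exact isIso_app_of_isZero η X (TStructure.t.isZero X b a hba)
    let t : TStructure (DerivedCategory A) := TStructure.t
    have hT := t.triangleLTGE_distinguished b X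
    have h0 : ∀ Z : A, IsZero Z → P Z := prop_of_isZero_of_isLE P X b hX
    have hA1 : ((t.truncLT b).obj X).IsLE (b - 1) :=
      inferInstanceAs (t.IsLE ((t.truncLT b).obj X) (b - 1))
    have hA2 : ((t.truncLT b).obj X).IsGE a := inferInstanceAs (t.IsGE ((t.truncLT b).obj X) a)
    have hB1 : ((t.truncGE b).obj X).IsGE b := inferInstanceAs (t.IsGE ((t.truncGE b).obj X) b)
    have hB2 : ((t.truncGE b).obj X).IsLE b := inferInstanceAs (t.IsLE ((t.truncGE b).obj X) b)
    have h1 : IsIso (η.app ((t.truncLT b).obj X)) :=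
      ih _ a (b - 1) (by lia) (prop_homology_truncLT P X b hX h0)
    have h3 : IsIso (η.app ((t.truncGE b).obj X)) := by
      refine isIso_app_of_heart P η hη _ b ?_
      have : IsIso ((homologyFunctor A b).map ((t.truncGEπ b).app X)) :=
        Helper5.TwoTerm.isIso_homologyMap_mor₂ _ hT b (b + 1) rfl
          (isZero_of_isLE ((t.truncLT b).obj X) (b - 1) b (by lia))
          (isZero_of_isLE ((t.truncLT b).obj X) (b - 1) (b + 1) (by lia))
      exact P.prop_of_iso (asIso ((homologyFunctor A b).map ((t.truncGEπ b).app X))) (hX b)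
    exact isIso_app_obj₂ η _ hT h1 h3

include P in
lemma prop_of_isZero_of_isGE (X : DerivedCategory A) (a : ℤ) [X.IsGE a]
    (hX : ∀ i : ℤ, P ((DerivedCategory.homologyFunctor A i).obj X)) (Z : A) (hZ : IsZero Z) :
    P Z :=
  P.prop_of_iso ((isZero_of_isGE X a (a - 1) (by lia)).iso hZ) (hX (a - 1))

/-- Homology of `τ_{≥b}`. -/
lemma prop_homology_truncGE (X : DerivedCategory A) (b : ℤ)
    (hX : ∀ i : ℤ, P ((DerivedCategory.homologyFunctor A i).obj X))
    (h0 : ∀ Z : A, IsZero Z → P Z) (i : ℤ) :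
    P ((DerivedCategory.homologyFunctor A i).obj
      (((TStructure.t : TStructure (DerivedCategory A)).truncGE b).obj X)) := by
  let t : TStructure (DerivedCategory A) := TStructure.t
  have hT := t.triangleLTGE_distinguished b X
  by_cases hi : b ≤ i
  · have hA : ((t.truncLT b).obj X).IsLE (b - 1) :=
      inferInstanceAs (t.IsLE ((t.truncLT b).obj X) (b - 1))
    have : IsIso ((homologyFunctor A i).map ((t.truncGEπ b).app X)) :=
      Helper5.TwoTerm.isIso_homologyMap_mor₂ _ hT i (i + 1) rfl
        (isZero_of_isLE ((t.truncLT b).obj X) (b - 1) i (by lia))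
        (isZero_of_isLE ((t.truncLT b).obj X) (b - 1) (i + 1) (by lia))
    exact P.prop_of_iso (asIso ((homologyFunctor A i).map ((t.truncGEπ b).app X))) (hX i)
  · have hB : ((t.truncGE b).obj X).IsGE b := inferInstanceAs (t.IsGE ((t.truncGE b).obj X) b)
    exact h0 _ (isZero_of_isGE ((t.truncGE b).obj X) b i (by lia))

omit [P.IsClosedUnderIsomorphisms] in
/-- If `Hⁿ(η)` is an isomorphism on `obj₁` and `F`, `G` of `obj₃` have no cohomology in degrees
`n-1`, `n`, then `Hⁿ(η)` is an isomorphism on `obj₂`. -/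
lemma isIso_homologyMap_app_obj₂_of_obj₁ (T : Triangle (DerivedCategory A))
    (hT : T ∈ distTriang _) (n : ℤ)
    (h1 : IsIso ((homologyFunctor B n).map (η.app T.obj₁)))
    (hF0 : IsZero ((homologyFunctor B (n - 1)).obj (F.obj T.obj₃)))
    (hF1 : IsZero ((homologyFunctor B n).obj (F.obj T.obj₃)))
    (hG0 : IsZero ((homologyFunctor B (n - 1)).obj (G.obj T.obj₃)))
    (hG1 : IsZero ((homologyFunctor B n).obj (G.obj T.obj₃))) :
    IsIso ((homologyFunctor B n).map (η.app T.obj₂)) := by
  have iF : IsIso ((homologyFunctor B n).map (F.map T.mor₁)) :=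
    Helper5.TwoTerm.isIso_homologyMap_mor₁ _ (F.map_distinguished T hT) (n - 1) n (by lia) hF0 hF1
  have iG : IsIso ((homologyFunctor B n).map (G.map T.mor₁)) :=
    Helper5.TwoTerm.isIso_homologyMap_mor₁ _ (G.map_distinguished T hT) (n - 1) n (by lia) hG0 hG1
  have hnat : (homologyFunctor B n).map (F.map T.mor₁) ≫ (homologyFunctor B n).map (η.app T.obj₂) =
      (homologyFunctor B n).map (η.app T.obj₁) ≫ (homologyFunctor B n).map (G.map T.mor₁) := by
    rw [← Functor.map_comp, ← Functor.map_comp, η.naturality]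
  have : (homologyFunctor B n).map (η.app T.obj₂) =
      inv ((homologyFunctor B n).map (F.map T.mor₁)) ≫
        (homologyFunctor B n).map (η.app T.obj₁) ≫ (homologyFunctor B n).map (G.map T.mor₁) := by
    rw [← hnat, IsIso.inv_hom_id_assoc]
  rw [this]
  infer_instance

omit [P.IsClosedUnderIsomorphisms] in
/-- Dual version with `obj₃`. -/
lemma isIso_homologyMap_app_obj₂_of_obj₃ (T : Triangle (DerivedCategory A))
    (hT : T ∈ distTriang _) (n : ℤ)
    (h3 : IsIso ((homologyFunctor B n).map (η.app T.obj₃)))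
    (hF0 : IsZero ((homologyFunctor B n).obj (F.obj T.obj₁)))
    (hF1 : IsZero ((homologyFunctor B (n + 1)).obj (F.obj T.obj₁)))
    (hG0 : IsZero ((homologyFunctor B n).obj (G.obj T.obj₁)))
    (hG1 : IsZero ((homologyFunctor B (n + 1)).obj (G.obj T.obj₁))) :
    IsIso ((homologyFunctor B n).map (η.app T.obj₂)) := by
  have iF : IsIso ((homologyFunctor B n).map (F.map T.mor₂)) :=
    Helper5.TwoTerm.isIso_homologyMap_mor₂ _ (F.map_distinguished T hT) n (n + 1) rfl hF0 hF1
  have iG : IsIso ((homologyFunctor B n).map (G.map T.mor₂)) :=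
    Helper5.TwoTerm.isIso_homologyMap_mor₂ _ (G.map_distinguished T hT) n (n + 1) rfl hG0 hG1
  have hnat : (homologyFunctor B n).map (F.map T.mor₂) ≫ (homologyFunctor B n).map (η.app T.obj₃) =
      (homologyFunctor B n).map (η.app T.obj₂) ≫ (homologyFunctor B n).map (G.map T.mor₂) := by
    rw [← Functor.map_comp, ← Functor.map_comp, η.naturality]
  have : (homologyFunctor B n).map (η.app T.obj₂) =
      ((homologyFunctor B n).map (F.map T.mor₂) ≫ (homologyFunctor B n).map (η.app T.obj₃)) ≫
        inv ((homologyFunctor B n).map (G.map T.mor₂)) := by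
    rw [hnat, assoc, IsIso.hom_inv_id, comp_id]
  rw [this]
  infer_instance

end derived

end Helper5.DCat
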