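import Mathlib
import Groth.Agent.Lib.Helper5.DCat.WayOut

open CategoryTheory Category Limits Pretriangulated DerivedCategory Triangulated

universe w w' v v' u u'

namespace Helper5.DCat

variable {A : Type u} [Category.{v} A] [Abelian A] [HasDerivedCategory.{w} A]
  {B : Type u'} [Category.{v'} B] [Abelian B] [HasDerivedCategory.{w'} B]
  (P : ObjectProperty A) [P.IsClosedUnderIsomorphisms]
  {F G : DerivedCategory A ⥤ DerivedCategory B} [F.CommShift ℤ] [G.CommShift ℤ]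
  [F.IsTriangulated] [G.IsTriangulated] (η : F ⟶ G) [NatTrans.CommShift η ℤ]

theorem isIso_app_of_isGE_of_wayOutRight
    (hF : ∀ n₁ : ℤ, ∃ n₂ : ℤ, ∀ Y : DerivedCategory A, Y.IsGE n₂ → (F.obj Y).IsGE n₁)
    (hG : ∀ n₁ : ℤ, ∃ n₂ : ℤ, ∀ Y : DerivedCategory A, Y.IsGE n₂ → (G.obj Y).IsGE n₁)
    (hη : ∀ X : A, P X → IsIso (η.app ((DerivedCategory.singleFunctor A 0).obj X)))
    (X : DerivedCategory A) (a : ℤ) [X.IsGE a]
    (hX : ∀ i : ℤ, P ((DerivedCategory.homologyFunctor A i).obj X)) :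
    IsIso (η.app X) := by
  rw [DerivedCategory.isIso_iff]
  intro n
  obtain ⟨m₁, hm₁⟩ := hF (n + 1)
  obtain ⟨m₂, hm₂⟩ := hG (n + 1)
  let t : TStructure (DerivedCategory A) := TStructure.t
  have hT := t.triangleLTGE_distinguished (max m₁ m₂) X
  have hGE : ((t.truncGE (max m₁ m₂)).obj X).IsGE (max m₁ m₂) :=
    inferInstanceAs (t.IsGE ((t.truncGE (max m₁ m₂)).obj X) (max m₁ m₂))
  have hGE1 : ((t.truncGE (max m₁ m₂)).obj X).IsGE m₁ :=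
    t.isGE_of_ge _ m₁ (max m₁ m₂) (le_max_left _ _)
  have hGE2 : ((t.truncGE (max m₁ m₂)).obj X).IsGE m₂ :=
    t.isGE_of_ge _ m₂ (max m₁ m₂) (le_max_right _ _)
  have hFGE := hm₁ _ hGE1
  have hGGE := hm₂ _ hGE2
  have h0 := prop_of_isZero_of_isGE P X a hX
  have hLE : ((t.truncLT (max m₁ m₂)).obj X).IsLE (max m₁ m₂ - 1) :=
    inferInstanceAs (t.IsLE ((t.truncLT (max m₁ m₂)).obj X) (max m₁ m₂ - 1))
  have hGEa : ((t.truncLT (max m₁ m₂)).obj X).IsGE a :=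
    inferInstanceAs (t.IsGE ((t.truncLT (max m₁ m₂)).obj X) a)
  have hiso : IsIso (η.app ((t.truncLT (max m₁ m₂)).obj X)) :=
    isIso_app_of_bounded P η hη ((max m₁ m₂ - 1 - a).toNat + 1) _ a (max m₁ m₂ - 1) (by lia)
      (prop_homology_truncLT P X _ hX h0)
  have hH : IsIso ((homologyFunctor B n).map (η.app ((t.truncLT (max m₁ m₂)).obj X))) :=
    inferInstance
  exact isIso_homologyMap_app_obj₂_of_obj₁ η _ hT n hH
    (@isZero_of_isGE _ _ _ _ (F.obj ((t.truncGE (max m₁ m₂)).obj X)) (n + 1) (n - 1) (by lia) hFGE)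
    (@isZero_of_isGE _ _ _ _ (F.obj ((t.truncGE (max m₁ m₂)).obj X)) (n + 1) n (by lia) hFGE)
    (@isZero_of_isGE _ _ _ _ (G.obj ((t.truncGE (max m₁ m₂)).obj X)) (n + 1) (n - 1) (by lia) hGGE)
    (@isZero_of_isGE _ _ _ _ (G.obj ((t.truncGE (max m₁ m₂)).obj X)) (n + 1) n (by lia) hGGE)

theorem isIso_app_of_wayOutBoth (hP : ∀ Z : A, IsZero Z → P Z)
    (hF : ∀ n₁ : ℤ, ∃ n₂ : ℤ, ∀ Y : DerivedCategory A, Y.IsGE n₂ → (F.obj Y).IsGE n₁)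
    (hF' : ∀ n₁ : ℤ, ∃ n₂ : ℤ, ∀ Y : DerivedCategory A, Y.IsLE n₂ → (F.obj Y).IsLE n₁)
    (hG : ∀ n₁ : ℤ, ∃ n₂ : ℤ, ∀ Y : DerivedCategory A, Y.IsGE n₂ → (G.obj Y).IsGE n₁)
    (hG' : ∀ n₁ : ℤ, ∃ n₂ : ℤ, ∀ Y : DerivedCategory A, Y.IsLE n₂ → (G.obj Y).IsLE n₁)
    (hη : ∀ X : A, P X → IsIso (η.app ((DerivedCategory.singleFunctor A 0).obj X)))
    (X : DerivedCategory A)
    (hX : ∀ i : ℤ, P ((DerivedCategory.homologyFunctor A i).obj X)) :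
    IsIso (η.app X) := by
  rw [DerivedCategory.isIso_iff]
  intro n
  obtain ⟨m₁, hm₁⟩ := hF' (n - 1)
  obtain ⟨m₂, hm₂⟩ := hG' (n - 1)
  let t : TStructure (DerivedCategory A) := TStructure.t
  have hT := t.triangleLTGE_distinguished (min m₁ m₂ + 1) X
  have hLE : ((t.truncLT (min m₁ m₂ + 1)).obj X).IsLE (min m₁ m₂) :=
    inferInstanceAs (t.IsLE ((t.truncLT (min m₁ m₂ + 1)).obj X) (min m₁ m₂))
  have hLE1 : ((t.truncLT (min m₁ m₂ + 1)).obj X).IsLE m₁ :=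
    t.isLE_of_le _ (min m₁ m₂) m₁ (min_le_left _ _)
  have hLE2 : ((t.truncLT (min m₁ m₂ + 1)).obj X).IsLE m₂ :=
    t.isLE_of_le _ (min m₁ m₂) m₂ (min_le_right _ _)
  have hFLE := hm₁ _ hLE1
  have hGLE := hm₂ _ hLE2
  have hGE : ((t.truncGE (min m₁ m₂ + 1)).obj X).IsGE (min m₁ m₂ + 1) :=
    inferInstanceAs (t.IsGE ((t.truncGE (min m₁ m₂ + 1)).obj X) (min m₁ m₂ + 1))
  have hiso : IsIso (η.app ((t.truncGE (min m₁ m₂ + 1)).obj X)) :=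
    isIso_app_of_isGE_of_wayOutRight P η hF hG hη _ (min m₁ m₂ + 1)
      (prop_homology_truncGE P X _ hX hP)
  have hH : IsIso ((homologyFunctor B n).map (η.app ((t.truncGE (min m₁ m₂ + 1)).obj X))) :=
    inferInstance
  exact isIso_homologyMap_app_obj₂_of_obj₃ η _ hT n hH
    (@isZero_of_isLE _ _ _ _ (F.obj ((t.truncLT (min m₁ m₂ + 1)).obj X)) (n - 1) n (by lia) hFLE)
    (@isZero_of_isLE _ _ _ _ (F.obj ((t.truncLT (min m₁ m₂ + 1)).obj X)) (n - 1) (n + 1)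
      (by lia) hFLE)
    (@isZero_of_isLE _ _ _ _ (G.obj ((t.truncLT (min m₁ m₂ + 1)).obj X)) (n - 1) n (by lia) hGLE)
    (@isZero_of_isLE _ _ _ _ (G.obj ((t.truncLT (min m₁ m₂ + 1)).obj X)) (n - 1) (n + 1)
      (by lia) hGLE)

end Helper5.DCat
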