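import Mathlib

open CategoryTheory Category Limits Pretriangulated DerivedCategory

universe w v u

namespace Helper5.DCat

variable {C : Type u} [Category.{v} C] [Abelian C] [HasDerivedCategory.{w} C]

set_option backward.defeqAttrib.useBackward true in
set_option backward.isDefEq.respectTransparency false in
/-- The canonical truncation triangle `τ≤n₀ K → K → τ≥n₁ K` in the derived category. -/
lemma exists_truncTriangle (K : CochainComplex C ℤ) (n₀ n₁ : ℤ) (h : n₀ + 1 = n₁) :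
    ∃ δ : Q.obj (K.truncGE n₁) ⟶ (Q.obj (K.truncLE n₀))⟦(1 : ℤ)⟧,
      Triangle.mk (Q.map (K.ιTruncLE n₀)) (Q.map (K.πTruncGE n₁)) δ ∈ distTriang _ := by
  have hS := K.shortComplexTruncLE_shortExact n₀
  refine ⟨inv (Q.map (K.shortComplexTruncLEX₃ToTruncGE n₀ n₁ h)) ≫ (triangleOfSES hS).mor₃,
    isomorphic_distinguished _ (triangleOfSES_distinguished hS) _ (Iso.symm ?_)⟩
  refine Triangle.isoMk _ _ (Iso.refl _) (Iso.refl _)
    (asIso (Q.map (K.shortComplexTruncLEX₃ToTruncGE n₀ n₁ h))) ?_ ?_ (by simp)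
  · dsimp
    rw [id_comp, comp_id]
    rfl
  · dsimp
    rw [← Q.map_comp, CochainComplex.g_shortComplexTruncLEX₃ToTruncGE .., id_comp]

/-- A morphism out of `K` killing `τ≤n₀ K` factors through `K → τ≥n₁ K`. -/
lemma exists_fac_πTruncGE (K : CochainComplex C ℤ) (n₀ n₁ : ℤ) (h : n₀ + 1 = n₁)
    {Y : DerivedCategory C} (f : Q.obj K ⟶ Y) (hf : Q.map (K.ιTruncLE n₀) ≫ f = 0) :
    ∃ φ : Q.obj (K.truncGE n₁) ⟶ Y, Q.map (K.πTruncGE n₁) ≫ φ = f := by
  obtain ⟨δ, hT⟩ := exists_truncTriangle K n₀ n₁ h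
  obtain ⟨φ, hφ⟩ := Triangle.yoneda_exact₂ _ hT f hf
  exact ⟨φ, hφ.symm⟩

end Helper5.DCat
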