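import Mathlib
import Groth.Agent.Lib.Helper5.DCat.TruncTri
import Groth.Agent.Lib.Helper5.TwoTerm.TSOrth

open CategoryTheory Category Limits Pretriangulated DerivedCategory

universe w v u

namespace Helper5.DCat

variable {A : Type u} [Category.{v} A] [Abelian A] [HasDerivedCategory.{w} A]

lemma homologyFunctor_map_Q_map_eq_zero {X Y : CochainComplex A ℤ} (g : X ⟶ Y) (m : ℤ)
    (hg : HomologicalComplex.homologyMap g m = 0) :
    (homologyFunctor A m).map (Q.map g) = 0 := by
  have := homologyFunctorFactors_hom_naturality g m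
  rw [hg] at this
  rw [← cancel_mono ((homologyFunctorFactors A m).hom.app Y), this, zero_comp]
  exact comp_zero

theorem factors_through_truncGE
    (K : ℕᵒᵖ ⥤ CochainComplex A ℤ) (n : ℕ)
    (h0 : ∀ i : ℤ, i < 0 → IsZero ((K.obj (Opposite.op 0)).homology i))
    (hz : ∀ j : ℕ, j < n →
      HomologicalComplex.homologyMap (K.map (homOfLE (Nat.le_succ j)).op) (j : ℤ) = 0) :
    ∃ φ : Q.obj ((K.obj (Opposite.op n)).truncGE (n : ℤ)) ⟶ Q.obj (K.obj (Opposite.op 0)),
      Q.map ((K.obj (Opposite.op n)).πTruncGE (n : ℤ)) ≫ φ =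
        Q.map (K.map (homOfLE (Nat.zero_le n)).op) := by
  induction n with
  | zero =>
    have : (K.obj (Opposite.op 0)).IsGE 0 := by
      rw [CochainComplex.isGE_iff]
      intro i hi
      rw [HomologicalComplex.exactAt_iff_isZero_homology]
      exact h0 i hi
    have : IsIso (Q.map ((K.obj (Opposite.op 0)).πTruncGE ((0 : ℕ) : ℤ))) := by
      rw [isIso_Q_map_iff_quasiIso]
      exact inferInstanceAs (QuasiIso ((K.obj (Opposite.op 0)).πTruncGE 0))
    exact ⟨inv (Q.map ((K.obj (Opposite.op 0)).πTruncGE ((0 : ℕ) : ℤ))) ≫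
      Q.map (K.map (homOfLE (Nat.zero_le 0)).op), by rw [IsIso.hom_inv_id_assoc]⟩
  | succ m ih =>
    obtain ⟨φ, hφ⟩ := ih (fun j hj => hz j (by lia))
    have hv : K.map (homOfLE (Nat.zero_le (m + 1))).op =
        K.map (homOfLE (Nat.le_succ m)).op ≫ K.map (homOfLE (Nat.zero_le m)).op := by
      rw [← K.map_comp, ← op_comp]
      rfl
    have key : Q.map ((K.obj (Opposite.op (m + 1))).ιTruncLE (m : ℤ)) ≫
        Q.map (K.map (homOfLE (Nat.zero_le (m + 1))).op) = 0 := by
      rw [hv, Q.map_comp, ← hφ, ← assoc, ← assoc, ← Q.map_comp, ← Q.map_comp]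
      have h1 : Q.map (((K.obj (Opposite.op (m + 1))).ιTruncLE (m : ℤ) ≫
          K.map (homOfLE (Nat.le_succ m)).op) ≫ (K.obj (Opposite.op m)).πTruncGE (m : ℤ)) = 0 := by
        apply Helper5.TwoTerm.eq_zero_of_homologyMap_eq_zero (m : ℤ)
        apply homologyFunctor_map_Q_map_eq_zero
        rw [HomologicalComplex.homologyMap_comp, HomologicalComplex.homologyMap_comp,
          hz m (by lia), comp_zero, zero_comp]
      rw [h1, zero_comp]
    obtain ⟨ψ, hψ⟩ := exists_fac_πTruncGE (K.obj (Opposite.op (m + 1))) (m : ℤ) ((m : ℤ) + 1) rfl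
      _ key
    exact ⟨ψ, hψ⟩

end Helper5.DCat
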