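import Mathlib
import Groth.Agent.Lib.Helper5.DCat.WayOut2

open CategoryTheory Category Limits Pretriangulated DerivedCategory Triangulated

universe w w' v v' u u'

namespace Helper5.DCat

section general

variable {C : Type u} [Category.{v} C] [Preadditive C] [HasZeroObject C] [HasShift C ℤ]
  [∀ n : ℤ, (shiftFunctor C n).Additive] [Pretriangulated C]
  {B : Type u'} [Category.{v'} B] [Abelian B] [HasDerivedCategory.{w'} B]
  {F G : C ⥤ DerivedCategory B} [F.CommShift ℤ] [G.CommShift ℤ]
  [F.IsTriangulated] [G.IsTriangulated] (η : F ⟶ G) [NatTrans.CommShift η ℤ]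

open ComposableArrows

lemma δ_naturality (T : Triangle C) (n₀ n₁ : ℤ) (h : n₀ + 1 = n₁) :
    (homologyFunctor B n₀).map (η.app T.obj₃) ≫
      HomologySequence.δ (G.mapTriangle.obj T) n₀ n₁ h =
    HomologySequence.δ (F.mapTriangle.obj T) n₀ n₁ h ≫
      (homologyFunctor B n₁).map (η.app T.obj₁) :=
  (homologyFunctor B 0).homologySequenceδ_naturality _ _ (mapTriangleHom η T) n₀ n₁ h

lemma mono_homologyMap_app_obj₁ (T : Triangle C) (hT : T ∈ distTriang C) (n₀ n₁ : ℤ)
    (h : n₀ + 1 = n₁)
    (h2 : Epi ((homologyFunctor B n₀).map (η.app T.obj₂)))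
    (h3 : Mono ((homologyFunctor B n₀).map (η.app T.obj₃)))
    (h2' : Mono ((homologyFunctor B n₁).map (η.app T.obj₂))) :
    Mono ((homologyFunctor B n₁).map (η.app T.obj₁)) := by
  have hFT := F.map_distinguished T hT
  have hGT := G.map_distinguished T hT
  let R₁ : ComposableArrows B 3 := mk₃ ((homologyFunctor B n₀).map (F.map T.mor₂))
    (HomologySequence.δ (F.mapTriangle.obj T) n₀ n₁ h) ((homologyFunctor B n₁).map (F.map T.mor₁))
  let R₂ : ComposableArrows B 3 := mk₃ ((homologyFunctor B n₀).map (G.map T.mor₂))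
    (HomologySequence.δ (G.mapTriangle.obj T) n₀ n₁ h) ((homologyFunctor B n₁).map (G.map T.mor₁))
  have hR₁ : R₁.Exact :=
    exact_of_δ₀ (HomologySequence.exact₃ _ hFT n₀ n₁ h).exact_toComposableArrows
      (HomologySequence.exact₁ _ hFT n₀ n₁ h).exact_toComposableArrows
  have hR₂ : R₂.Exact :=
    exact_of_δ₀ (HomologySequence.exact₃ _ hGT n₀ n₁ h).exact_toComposableArrows
      (HomologySequence.exact₁ _ hGT n₀ n₁ h).exact_toComposableArrows
  let φ : R₁ ⟶ R₂ := homMk₃ ((homologyFunctor B n₀).map (η.app T.obj₂))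
    ((homologyFunctor B n₀).map (η.app T.obj₃)) ((homologyFunctor B n₁).map (η.app T.obj₁))
    ((homologyFunctor B n₁).map (η.app T.obj₂))
    (by
      change (homologyFunctor B n₀).map (F.map T.mor₂) ≫ (homologyFunctor B n₀).map (η.app T.obj₃) =
        (homologyFunctor B n₀).map (η.app T.obj₂) ≫ (homologyFunctor B n₀).map (G.map T.mor₂)
      rw [← Functor.map_comp, ← Functor.map_comp, η.naturality])
    (by
      exact (δ_naturality η T n₀ n₁ h).symm)
    (by
      change (homologyFunctor B n₁).map (F.map T.mor₁) ≫ (homologyFunctor B n₁).map (η.app T.obj₂) =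
        (homologyFunctor B n₁).map (η.app T.obj₁) ≫ (homologyFunctor B n₁).map (G.map T.mor₁)
      rw [← Functor.map_comp, ← Functor.map_comp, η.naturality])
  exact Abelian.mono_of_epi_of_mono_of_mono φ hR₁ hR₂ h2 h3 h2'

lemma epi_homologyMap_app_obj₁ (T : Triangle C) (hT : T ∈ distTriang C) (n₀ n₁ : ℤ)
    (h : n₀ + 1 = n₁)
    (h3 : Epi ((homologyFunctor B n₀).map (η.app T.obj₃)))
    (h2' : Epi ((homologyFunctor B n₁).map (η.app T.obj₂)))
    (h3' : Mono ((homologyFunctor B n₁).map (η.app T.obj₃))) :
    Epi ((homologyFunctor B n₁).map (η.app T.obj₁)) := by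
  have hFT := F.map_distinguished T hT
  have hGT := G.map_distinguished T hT
  let R₁ : ComposableArrows B 3 := mk₃
    (HomologySequence.δ (F.mapTriangle.obj T) n₀ n₁ h) ((homologyFunctor B n₁).map (F.map T.mor₁))
    ((homologyFunctor B n₁).map (F.map T.mor₂))
  let R₂ : ComposableArrows B 3 := mk₃
    (HomologySequence.δ (G.mapTriangle.obj T) n₀ n₁ h) ((homologyFunctor B n₁).map (G.map T.mor₁))
    ((homologyFunctor B n₁).map (G.map T.mor₂))
  have hR₁ : R₁.Exact :=
    exact_of_δ₀ (HomologySequence.exact₁ _ hFT n₀ n₁ h).exact_toComposableArrows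
      (HomologySequence.exact₂ _ hFT n₁).exact_toComposableArrows
  have hR₂ : R₂.Exact :=
    exact_of_δ₀ (HomologySequence.exact₁ _ hGT n₀ n₁ h).exact_toComposableArrows
      (HomologySequence.exact₂ _ hGT n₁).exact_toComposableArrows
  let φ : R₁ ⟶ R₂ := homMk₃ 
    ((homologyFunctor B n₀).map (η.app T.obj₃)) ((homologyFunctor B n₁).map (η.app T.obj₁))
    ((homologyFunctor B n₁).map (η.app T.obj₂)) ((homologyFunctor B n₁).map (η.app T.obj₃))
    (by
      exact (δ_naturality η T n₀ n₁ h).symm)
    (by
      change (homologyFunctor B n₁).map (F.map T.mor₁) ≫ (homologyFunctor B n₁).map (η.app T.obj₂) =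
        (homologyFunctor B n₁).map (η.app T.obj₁) ≫ (homologyFunctor B n₁).map (G.map T.mor₁)
      rw [← Functor.map_comp, ← Functor.map_comp, η.naturality])
    (by
      change (homologyFunctor B n₁).map (F.map T.mor₂) ≫ (homologyFunctor B n₁).map (η.app T.obj₃) =
        (homologyFunctor B n₁).map (η.app T.obj₂) ≫ (homologyFunctor B n₁).map (G.map T.mor₂)
      rw [← Functor.map_comp, ← Functor.map_comp, η.naturality])
  exact Abelian.epi_of_epi_of_epi_of_mono φ hR₁ hR₂ h3 h2' h3'

end general

end Helper5.DCat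

namespace Helper5.DCat

section derived

variable {A : Type u} [Category.{v} A] [Abelian A] [HasDerivedCategory.{w} A]
  {B : Type u'} [Category.{v'} B] [Abelian B] [HasDerivedCategory.{w'} B]
  {F G : DerivedCategory A ⥤ DerivedCategory B} [F.CommShift ℤ] [G.CommShift ℤ]
  [F.IsTriangulated] [G.IsTriangulated] (η : F ⟶ G) [NatTrans.CommShift η ℤ]

omit [G.CommShift ℤ] [F.IsTriangulated] [G.IsTriangulated] in
/-- A way-out right functor sends objects of the heart to uniformly bounded below objects. -/
lemma exists_isGE_singleFunctor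
    (hF : ∀ n₁ : ℤ, ∃ n₂ : ℤ, ∀ Y : DerivedCategory A, Y.IsGE n₂ → (F.obj Y).IsGE n₁) :
    ∃ N : ℤ, ∀ X : A, (F.obj ((DerivedCategory.singleFunctor A 0).obj X)).IsGE N := by
  obtain ⟨n₂, h⟩ := hF 0
  refine ⟨-n₂, fun X => ?_⟩
  let t : TStructure (DerivedCategory B) := TStructure.t
  have e : ((DerivedCategory.singleFunctor A 0).obj X)⟦(-n₂ : ℤ)⟧ ≅
      (DerivedCategory.singleFunctor A n₂).obj X :=
    ((singleFunctors A).shiftIso (-n₂) n₂ 0 (by lia)).app X
  have h1 : (F.obj ((DerivedCategory.singleFunctor A n₂).obj X)).IsGE 0 := h _ inferInstance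
  have e2 : (F.obj ((DerivedCategory.singleFunctor A 0).obj X))⟦(-n₂ : ℤ)⟧ ≅
      F.obj ((DerivedCategory.singleFunctor A n₂).obj X) :=
    ((F.commShiftIso (-n₂ : ℤ)).app _).symm ≪≫ F.mapIso e
  have h2 : t.IsGE ((F.obj ((DerivedCategory.singleFunctor A 0).obj X))⟦(-n₂ : ℤ)⟧) 0 :=
    t.isGE_of_iso e2.symm 0
  exact t.isGE_of_shift _ (-n₂) (-n₂) 0 (by lia)

theorem isIso_app_singleFunctor_of_mono_into (P : ObjectProperty A)
    (hP : ∀ X : A, ∃ (Y : A) (i : X ⟶ Y), P Y ∧ Mono i)
    (hF : ∀ n₁ : ℤ, ∃ n₂ : ℤ, ∀ Y : DerivedCategory A, Y.IsGE n₂ → (F.obj Y).IsGE n₁)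
    (hG : ∀ n₁ : ℤ, ∃ n₂ : ℤ, ∀ Y : DerivedCategory A, Y.IsGE n₂ → (G.obj Y).IsGE n₁)
    (hη : ∀ X : A, P X → IsIso (η.app ((DerivedCategory.singleFunctor A 0).obj X)))
    (X : A) :
    IsIso (η.app ((DerivedCategory.singleFunctor A 0).obj X)) := by
  obtain ⟨N₁, hN₁⟩ := exists_isGE_singleFunctor hF
  obtain ⟨N₂, hN₂⟩ := exists_isGE_singleFunctor hG
  have key : ∀ (k : ℕ) (n : ℤ), n = min N₁ N₂ - 1 + k → ∀ (X : A),
      IsIso ((homologyFunctor B n).map
        (η.app ((DerivedCategory.singleFunctor A 0).obj X))) := by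
    intro k
    induction k with
    | zero =>
      intro n hn X
      have h1 : IsZero ((homologyFunctor B n).obj
          (F.obj ((DerivedCategory.singleFunctor A 0).obj X))) :=
        @isZero_of_isGE _ _ _ _ _ N₁ _ (by simp at hn; lia) (hN₁ X)
      have h2 : IsZero ((homologyFunctor B n).obj
          (G.obj ((DerivedCategory.singleFunctor A 0).obj X))) :=
        @isZero_of_isGE _ _ _ _ _ N₂ _ (by simp at hn; lia) (hN₂ X)
      exact ⟨0, h1.eq_of_src _ _, h2.eq_of_src _ _⟩
    | succ k ih =>
      intro n hn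
      have ih' := ih (n - 1) (by push_cast at hn; lia)
      have hmono : ∀ X : A, Mono ((homologyFunctor B n).map
          (η.app ((DerivedCategory.singleFunctor A 0).obj X))) := by
        intro X
        obtain ⟨Y, i, hY, hi⟩ := hP X
        have hS : (ShortComplex.mk i (cokernel.π i) (cokernel.condition i)).ShortExact :=
          { exact := ShortComplex.exact_cokernel i }
        have hT := hS.singleTriangle_distinguished
        have h1 : IsIso (η.app ((DerivedCategory.singleFunctor A 0).obj Y)) := hη Y hY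
        have h2 := ih' Y
        have h3 := ih' (cokernel i)
        have h4 : IsIso ((homologyFunctor B n).map
          (η.app ((DerivedCategory.singleFunctor A 0).obj Y))) := inferInstance
        exact mono_homologyMap_app_obj₁ η _ hT (n - 1) n (by lia)
          (show Epi ((homologyFunctor B (n - 1)).map
            (η.app ((DerivedCategory.singleFunctor A 0).obj Y))) from inferInstance)
          (show Mono ((homologyFunctor B (n - 1)).map
            (η.app ((DerivedCategory.singleFunctor A 0).obj (cokernel i)))) from inferInstance)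
          (show Mono ((homologyFunctor B n).map
            (η.app ((DerivedCategory.singleFunctor A 0).obj Y))) from inferInstance)
      intro X
      obtain ⟨Y, i, hY, hi⟩ := hP X
      have hS : (ShortComplex.mk i (cokernel.π i) (cokernel.condition i)).ShortExact :=
        { exact := ShortComplex.exact_cokernel i }
      have hT := hS.singleTriangle_distinguished
      have h1 : IsIso (η.app ((DerivedCategory.singleFunctor A 0).obj Y)) := hη Y hY
      have h3 := ih' (cokernel i)
      have h4 : IsIso ((homologyFunctor B n).map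
        (η.app ((DerivedCategory.singleFunctor A 0).obj Y))) := inferInstance
      have h5 := hmono (cokernel i)
      have h6 := hmono X
      have : Epi ((homologyFunctor B n).map
          (η.app ((DerivedCategory.singleFunctor A 0).obj X))) :=
        epi_homologyMap_app_obj₁ η _ hT (n - 1) n (by lia)
          (show Epi ((homologyFunctor B (n - 1)).map
            (η.app ((DerivedCategory.singleFunctor A 0).obj (cokernel i)))) from inferInstance)
          (show Epi ((homologyFunctor B n).map
            (η.app ((DerivedCategory.singleFunctor A 0).obj Y))) from inferInstance)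
          (show Mono ((homologyFunctor B n).map
            (η.app ((DerivedCategory.singleFunctor A 0).obj (cokernel i)))) from inferInstance)
      exact isIso_of_mono_of_epi _
  rw [DerivedCategory.isIso_iff]
  intro n
  by_cases hn : min N₁ N₂ - 1 ≤ n
  · obtain ⟨k, hk⟩ := Int.eq_ofNat_of_zero_le (sub_nonneg.mpr hn)
    exact key k n (by lia) X
  · have h1 : IsZero ((homologyFunctor B n).obj
          (F.obj ((DerivedCategory.singleFunctor A 0).obj X))) :=
        @isZero_of_isGE _ _ _ _ _ N₁ _ (by lia) (hN₁ X)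
    have h2 : IsZero ((homologyFunctor B n).obj
          (G.obj ((DerivedCategory.singleFunctor A 0).obj X))) :=
        @isZero_of_isGE _ _ _ _ _ N₂ _ (by lia) (hN₂ X)
    exact ⟨0, h1.eq_of_src _ _, h2.eq_of_src _ _⟩

end derived

end Helper5.DCat
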