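import Mathlib

open CategoryTheory CategoryTheory.Limits CategoryTheory.Pretriangulated

namespace Helper5.Karoubi

universe v u
variable {D : Type u} [Category.{v} D] [Preadditive D] [HasZeroObject D] [HasShift D ℤ]
  [∀ n : ℤ, (shiftFunctor D n).Additive] [Pretriangulated D]

theorem split_of_coproducts [HasColimitsOfShape (Discrete ℕ) D] (X : D) (e : X ⟶ X)
    (he : e ≫ e = e) : ∃ (Y : D) (i : Y ⟶ X) (r : X ⟶ Y), i ≫ r = 𝟙 Y ∧ r ≫ i = e := by
  let ι : ∀ n : ℕ, X ⟶ ∐ (fun _ : ℕ => X) := fun n => Sigma.ι (fun _ : ℕ => X) n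
  let φ : (∐ fun _ : ℕ => X) ⟶ ∐ fun _ : ℕ => X :=
    Sigma.desc (fun n => ι n - e ≫ ι (n + 1))
  let ρ : (∐ fun _ : ℕ => X) ⟶ ∐ fun _ : ℕ => X :=
    Sigma.desc (fun n => (𝟙 X - e) ≫ ι n - ∑ k ∈ Finset.range n, e ≫ ι k)
  have hιφ : ∀ n, ι n ≫ φ = ι n - e ≫ ι (n + 1) := fun n => by simp [φ, ι]
  have hιρ : ∀ n, ι n ≫ ρ = (𝟙 X - e) ≫ ι n - ∑ k ∈ Finset.range n, e ≫ ι k :=
    fun n => by simp [ρ, ι]
  have hφρ : φ ≫ ρ = 𝟙 _ := by
    apply Sigma.hom_ext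
    intro n
    change ι n ≫ φ ≫ ρ = ι n ≫ 𝟙 _
    rw [← Category.assoc, hιφ, Preadditive.sub_comp, Category.assoc, hιρ, hιρ, Category.comp_id,
      Preadditive.comp_sub, Finset.sum_range_succ, Preadditive.comp_add, Preadditive.comp_sum]
    simp only [Preadditive.sub_comp, Category.id_comp, ← Category.assoc, he,
      Preadditive.comp_sub, sub_self]
    abel
  obtain ⟨Y, π, δ, hT⟩ := distinguished_cocone_triangle φ
  have hδ : δ = 0 := by
    have h1 : δ ≫ φ⟦(1 : ℤ)⟧' = 0 := comp_distTriang_mor_zero₃₁ _ hT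
    have h2 : φ⟦(1 : ℤ)⟧' ≫ ρ⟦(1 : ℤ)⟧' = 𝟙 _ := by
      rw [← Functor.map_comp, hφρ, CategoryTheory.Functor.map_id]
    calc δ = δ ≫ φ⟦(1 : ℤ)⟧' ≫ ρ⟦(1 : ℤ)⟧' := by rw [h2, Category.comp_id]
      _ = 0 := by rw [← Category.assoc, h1, zero_comp]
  have hπ : Epi π := (Triangle.mk φ π δ).epi₂ hT hδ
  let f : (∐ fun _ : ℕ => X) ⟶ X := Sigma.desc (fun _ => e)
  have hιf : ∀ n, ι n ≫ f = e := fun n => by simp [f, ι]
  have hφf : φ ≫ f = 0 := by
    apply Sigma.hom_ext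
    intro n
    change ι n ≫ φ ≫ f = ι n ≫ 0
    rw [← Category.assoc, hιφ, Preadditive.sub_comp, Category.assoc, hιf, hιf, he, sub_self,
      comp_zero]
  obtain ⟨g, hg⟩ : ∃ g : Y ⟶ X, f = π ≫ g := (Triangle.mk φ π δ).yoneda_exact₂ hT f hφf
  have hφπ : φ ≫ π = 0 := comp_distTriang_mor_zero₁₂ _ hT
  have h1 : ∀ n, ι n ≫ π = e ≫ ι (n + 1) ≫ π := by
    intro n
    have := congrArg (fun t => ι n ≫ t) hφπ
    simp only [comp_zero] at this
    rw [← Category.assoc, hιφ, Preadditive.sub_comp, sub_eq_zero, Category.assoc] at this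
    exact this
  have h2 : ∀ n, e ≫ ι n ≫ π = ι n ≫ π := by
    intro n
    rw [h1 n, ← Category.assoc, he]
  have h3 : ∀ n, ι (n + 1) ≫ π = ι n ≫ π := by
    intro n
    rw [h1 n, h2]
  have h4 : ∀ n, ι n ≫ π = ι 0 ≫ π := by
    intro n
    induction n with
    | zero => rfl
    | succ n ih => rw [h3, ih]
  refine ⟨Y, g, ι 0 ≫ π, ?_, ?_⟩
  · rw [← cancel_epi π]
    apply Sigma.hom_ext
    intro n
    change ι n ≫ π ≫ g ≫ ι 0 ≫ π = ι n ≫ π ≫ 𝟙 _
    have hg' : π ≫ g = f := hg.symm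
    rw [← Category.assoc π, hg', ← Category.assoc, hιf, Category.comp_id, h2, h4 n]
  · have hg' : π ≫ g = f := hg.symm
    rw [Category.assoc, hg', hιf]

theorem isIdempotentComplete_of_coproducts [HasColimitsOfShape (Discrete ℕ) D] :
    IsIdempotentComplete D :=
  ⟨fun X e he => split_of_coproducts X e he⟩

open Pretriangulated.Opposite in
theorem isIdempotentComplete_of_products [HasLimitsOfShape (Discrete ℕ) D] :
    IsIdempotentComplete D := by
  have : HasColimitsOfShape (Discrete ℕ) Dᵒᵖ := inferInstance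
  rw [← Idempotents.isIdempotentComplete_iff_opposite]
  exact isIdempotentComplete_of_coproducts

end Helper5.Karoubi
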