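import Mathlib

open CategoryTheory CategoryTheory.Limits CategoryTheory.Pretriangulated
  CategoryTheory.Triangulated

namespace Helper5.KaroubiT

section ring
variable {R : Type*} [Ring R]

lemma ring_conj (e p : R) (he : e * e = e) (hp : p * p = p)
    (hd : (e - p) * (e - p) = 0) :
    (e * p + (1 - e) * (1 - p)) * (p * e + (1 - p) * (1 - e)) = 1 := by
  have key : (e * p + (1 - e) * (1 - p)) * (p * e + (1 - p) * (1 - e)) =
      1 - (e - p) * (e - p) + 2 * (e * e - e) + (p * p - p) + e * (p * p - p) * e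
        - e * (p * p - p) * (1 - e) - (1 - e) * (p * p - p) * e
        + (1 - e) * (p * p - p) * (1 - e) := by
    noncomm_ring
  rw [key, hd, he, hp]; simp

lemma ring_comm (e p : R) (he : e * e = e) (hp : p * p = p) :
    e * (e * p + (1 - e) * (1 - p)) = (e * p + (1 - e) * (1 - p)) * p := by
  have key : e * (e * p + (1 - e) * (1 - p)) - (e * p + (1 - e) * (1 - p)) * p =
      (e * e - e) * p - (e * e - e) * (1 - p) + (1 - e) * (p * p - p) - e * (p * p - p) := by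
    noncomm_ring
  rw [← sub_eq_zero, key, he, hp]; simp

end ring

universe v u
variable {C : Type u} [Category.{v} C] [Preadditive C]

/-- An idempotent differing from a split idempotent by a square-zero morphism splits. -/
lemma split_of_sq_zero {B B₁ : C} (e p : B ⟶ B) (he : e ≫ e = e) (hp : p ≫ p = p)
    (hd : (e - p) ≫ (e - p) = 0) (i : B₁ ⟶ B) (r : B ⟶ B₁) (hir : i ≫ r = 𝟙 B₁)
    (hri : r ≫ i = p) :
    ∃ (i' : B₁ ⟶ B) (r' : B ⟶ B₁), i' ≫ r' = 𝟙 B₁ ∧ r' ≫ i' = e := by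
  -- work in the ring `End B`, where `x * y = y ≫ x`
  let E : End B := e
  let P : End B := p
  have hE : E * E = E := he
  have hP : P * P = P := hp
  have hD : (E - P) * (E - P) = 0 := hd
  have hD' : (P - E) * (P - E) = 0 := by
    have : P - E = -(E - P) := by abel
    rw [this, neg_mul_neg, hD]
  -- a = first factor, b = second factor
  let a : End B := E * P + (1 - E) * (1 - P)
  let b : End B := P * E + (1 - P) * (1 - E)
  have hab : a * b = 1 := ring_conj E P hE hP hD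
  have hba : b * a = 1 := ring_conj P E hP hE hD'
  have hea : E * a = a * P := ring_comm E P hE hP
  -- translate: x * y = y ≫ x
  have hab' : (b : B ⟶ B) ≫ (a : B ⟶ B) = 𝟙 B := hab
  have hba' : (a : B ⟶ B) ≫ (b : B ⟶ B) = 𝟙 B := hba
  have hea' : (a : B ⟶ B) ≫ e = p ≫ (a : B ⟶ B) := hea
  refine ⟨i ≫ (a : B ⟶ B), (b : B ⟶ B) ≫ r, ?_, ?_⟩
  · rw [Category.assoc, ← Category.assoc (a : B ⟶ B), hba', Category.id_comp, hir]
  · calc ((b : B ⟶ B) ≫ r) ≫ i ≫ (a : B ⟶ B) = (b : B ⟶ B) ≫ (r ≫ i) ≫ (a : B ⟶ B) := by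
          simp only [Category.assoc]
      _ = (b : B ⟶ B) ≫ (a : B ⟶ B) ≫ e := by rw [hri, hea']
      _ = e := by rw [← Category.assoc, hab', Category.id_comp]

variable [HasZeroObject C] [HasShift C ℤ] [∀ n : ℤ, (shiftFunctor C n).Additive]
  [Pretriangulated C]

/-- If an idempotent endomorphism of a distinguished triangle splits on the outer terms,
it splits on the middle term. -/
theorem split_of_triangle {T : Triangle C} (hT : T ∈ distTriang C) (φ : T ⟶ T)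
    (h₂ : φ.hom₂ ≫ φ.hom₂ = φ.hom₂)
    {A₁ : C} (iA : A₁ ⟶ T.obj₁) (rA : T.obj₁ ⟶ A₁) (hA : iA ≫ rA = 𝟙 A₁)
    (hA' : rA ≫ iA = φ.hom₁)
    {C₁ : C} (iC : C₁ ⟶ T.obj₃) (rC : T.obj₃ ⟶ C₁) (hC : iC ≫ rC = 𝟙 C₁)
    (hC' : rC ≫ iC = φ.hom₃) :
    ∃ (B₁ : C) (i : B₁ ⟶ T.obj₂) (r : T.obj₂ ⟶ B₁), i ≫ r = 𝟙 B₁ ∧ r ≫ i = φ.hom₂ := by
  obtain ⟨B₁, u₁, v₁, hT₁⟩ := distinguished_cocone_triangle₂ (iC ≫ T.mor₃ ≫ rA⟦(1 : ℤ)⟧')
  have c3 : T.mor₃ ≫ φ.hom₁⟦(1 : ℤ)⟧' = φ.hom₃ ≫ T.mor₃ := φ.comm₃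
  have c1 : T.mor₁ ≫ φ.hom₂ = φ.hom₁ ≫ T.mor₁ := φ.comm₁
  have c2 : T.mor₂ ≫ φ.hom₃ = φ.hom₂ ≫ T.mor₂ := φ.comm₂
  have commi : (iC ≫ T.mor₃ ≫ rA⟦(1 : ℤ)⟧') ≫ iA⟦(1 : ℤ)⟧' = iC ≫ T.mor₃ := by
    rw [Category.assoc, Category.assoc, ← Functor.map_comp, hA', c3, ← hC', Category.assoc,
      ← Category.assoc iC, hC, Category.id_comp]
  have commr : T.mor₃ ≫ rA⟦(1 : ℤ)⟧' = rC ≫ (iC ≫ T.mor₃ ≫ rA⟦(1 : ℤ)⟧') := by
    rw [← Category.assoc rC, hC', ← Category.assoc, ← c3, Category.assoc, ← Functor.map_comp,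
      ← hA', Category.assoc, hA, Category.comp_id]
  obtain ⟨iB, hi1, hi2⟩ : ∃ iB : B₁ ⟶ T.obj₂, u₁ ≫ iB = iA ≫ T.mor₁ ∧ v₁ ≫ iC = iB ≫ T.mor₂ :=
    complete_distinguished_triangle_morphism₂ _ T hT₁ hT iA iC commi
  obtain ⟨rB, hr1, hr2⟩ : ∃ rB : T.obj₂ ⟶ B₁, T.mor₁ ≫ rB = rA ≫ u₁ ∧ T.mor₂ ≫ rC = rB ≫ v₁ :=
    complete_distinguished_triangle_morphism₂ T _ hT hT₁ rA rC commr
  -- θ = iB ≫ rB is an automorphism of B₁
  have hθ1 : u₁ ≫ iB ≫ rB = u₁ := by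
    rw [← Category.assoc, hi1, Category.assoc, hr1, ← Category.assoc, hA, Category.id_comp]
  have hθ2 : (iB ≫ rB) ≫ v₁ = v₁ := by
    rw [Category.assoc, ← hr2, ← Category.assoc, ← hi2, Category.assoc, hC, Category.comp_id]
  let ψ : Triangle.mk u₁ v₁ (iC ≫ T.mor₃ ≫ rA⟦(1 : ℤ)⟧') ⟶
      Triangle.mk u₁ v₁ (iC ≫ T.mor₃ ≫ rA⟦(1 : ℤ)⟧') :=
    { hom₁ := 𝟙 _
      hom₂ := iB ≫ rB
      hom₃ := 𝟙 _
      comm₁ := by dsimp only [Triangle.mk]; rw [hθ1, Category.id_comp]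
      comm₂ := by dsimp only [Triangle.mk]; rw [hθ2, Category.comp_id]
      comm₃ := by
        dsimp only [Triangle.mk]
        rw [CategoryTheory.Functor.map_id, Category.comp_id, Category.id_comp] }
  have hiso : IsIso (iB ≫ rB) :=
    isIso₂_of_isIso₁₃ ψ hT₁ hT₁ (show IsIso (𝟙 A₁) from inferInstance)
      (show IsIso (𝟙 C₁) from inferInstance)
  have hθ1' : u₁ ≫ inv (iB ≫ rB) = u₁ := by
    rw [IsIso.comp_inv_eq, hθ1]
  have hθ2' : inv (iB ≫ rB) ≫ v₁ = v₁ := by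
    rw [IsIso.inv_comp_eq, hθ2]
  -- the split idempotent p
  have hsplit : iB ≫ (rB ≫ inv (iB ≫ rB)) = 𝟙 B₁ := by
    rw [← Category.assoc, IsIso.hom_inv_id]
  have hp : ((rB ≫ inv (iB ≫ rB)) ≫ iB) ≫ ((rB ≫ inv (iB ≫ rB)) ≫ iB) =
      (rB ≫ inv (iB ≫ rB)) ≫ iB := by
    rw [Category.assoc, ← Category.assoc iB, hsplit, Category.id_comp]
  have hup : T.mor₁ ≫ ((rB ≫ inv (iB ≫ rB)) ≫ iB) = T.mor₁ ≫ φ.hom₂ := by
    rw [Category.assoc, ← Category.assoc T.mor₁, hr1, Category.assoc, ← Category.assoc u₁,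
      hθ1', hi1, ← Category.assoc, hA', c1]
  have hpv : ((rB ≫ inv (iB ≫ rB)) ≫ iB) ≫ T.mor₂ = φ.hom₂ ≫ T.mor₂ := by
    rw [Category.assoc, ← hi2, Category.assoc, ← Category.assoc (inv (iB ≫ rB)), hθ2',
      ← Category.assoc, ← hr2, Category.assoc, hC', c2]
  have hd : (φ.hom₂ - (rB ≫ inv (iB ≫ rB)) ≫ iB) ≫ (φ.hom₂ - (rB ≫ inv (iB ≫ rB)) ≫ iB) = 0 := by
    have h1 : T.mor₁ ≫ (φ.hom₂ - (rB ≫ inv (iB ≫ rB)) ≫ iB) = 0 := by
      rw [Preadditive.comp_sub, hup, sub_self]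
    have h2 : (φ.hom₂ - (rB ≫ inv (iB ≫ rB)) ≫ iB) ≫ T.mor₂ = 0 := by
      rw [Preadditive.sub_comp, hpv, sub_self]
    obtain ⟨s, hs⟩ := Triangle.yoneda_exact₂ T hT _ h1
    calc (φ.hom₂ - (rB ≫ inv (iB ≫ rB)) ≫ iB) ≫ (φ.hom₂ - (rB ≫ inv (iB ≫ rB)) ≫ iB)
        = (φ.hom₂ - (rB ≫ inv (iB ≫ rB)) ≫ iB) ≫ T.mor₂ ≫ s := by rw [← hs]
      _ = 0 := by rw [← Category.assoc, h2, zero_comp]
  obtain ⟨i', r', h1, h2'⟩ := split_of_sq_zero φ.hom₂ _ h₂ hp hd iB (rB ≫ inv (iB ≫ rB))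
    hsplit rfl
  exact ⟨B₁, i', r', h1, h2'⟩

variable (t : TStructure C)

/-- heart-like case: `X` is concentrated in a single degree `a`. -/
theorem split_of_heart (a : ℤ) (X : C) [t.IsGE X a] [t.IsLE X a] (e : X ⟶ X)
    (he : e ≫ e = e) :
    ∃ (Y : C) (i : Y ⟶ X) (r : X ⟶ Y), i ≫ r = 𝟙 Y ∧ r ≫ i = e := by
  obtain ⟨Cn, c, d, hT⟩ := distinguished_cocone_triangle (𝟙 X - e)
  have hfe : (𝟙 X - e) ≫ e = 0 := by
    rw [Preadditive.sub_comp, Category.id_comp, he, sub_self]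
  obtain ⟨e', he'⟩ : ∃ e' : Cn ⟶ X, e = c ≫ e' := Triangle.yoneda_exact₂ _ hT e hfe
  have hqi : (t.truncGEπ a).app Cn ≫ t.descTruncGE e' a = e' := t.π_descTruncGE e' a
  have h1 : (𝟙 X - e) ≫ c = 0 := comp_distTriang_mor_zero₁₂ _ hT
  rw [Preadditive.sub_comp, Category.id_comp, sub_eq_zero] at h1
  refine ⟨(t.truncGE a).obj Cn, t.descTruncGE e' a, c ≫ (t.truncGEπ a).app Cn, ?_, ?_⟩
  · apply t.from_truncGE_obj_ext
    rw [← Category.assoc, hqi, Category.comp_id]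
    have hcancel : ∀ (g₁ g₂ : Cn ⟶ (t.truncGE a).obj Cn), c ≫ g₁ = c ≫ g₂ → g₁ = g₂ := by
      intro g₁ g₂ h
      have h0 : c ≫ (g₁ - g₂) = 0 := by rw [Preadditive.comp_sub, h, sub_self]
      obtain ⟨k, hk⟩ : ∃ k : X⟦(1 : ℤ)⟧ ⟶ (t.truncGE a).obj Cn, g₁ - g₂ = d ≫ k :=
        Triangle.yoneda_exact₃ _ hT (g₁ - g₂) h0
      have hk0 : k = 0 := t.zero_of_isLE_of_isGE k (a - 1) a (by lia)
        (t.isLE_shift X a 1 (a - 1) (by lia)) inferInstance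
      rw [← sub_eq_zero, hk, hk0, comp_zero]
    apply hcancel
    rw [← Category.assoc, ← he', ← Category.assoc, ← h1]
  · rw [Category.assoc, hqi, ← he']

theorem split_of_width [IsTriangulated C] (n : ℕ) : ∀ (a : ℤ) (X : C) [t.IsGE X a] [t.IsLE X (a + n)]
    (e : X ⟶ X), e ≫ e = e →
    ∃ (Y : C) (i : Y ⟶ X) (r : X ⟶ Y), i ≫ r = 𝟙 Y ∧ r ≫ i = e := by
  induction n with
  | zero =>
    intro a X _ hLE e he
    have : t.IsLE X a := by simpa using hLE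
    exact split_of_heart t a X e he
  | succ n ih =>
    intro a X hGE hLE e he
    have hLE' : t.IsLE X (a + n + 1) := by
      have : a + ((n + 1 : ℕ) : ℤ) = a + n + 1 := by push_cast; ring
      rw [← this]; exact hLE
    have hT := t.triangleLTGE_distinguished (a + n + 1) X
    have h1 : t.IsLE ((t.truncLT (a + n + 1)).obj X) (a + n) :=
      t.isLE_truncLT_obj X (a + n + 1) (a + n) (by lia)
    obtain ⟨A₁, iA, rA, hA, hA'⟩ := ih a ((t.truncLT (a + n + 1)).obj X)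
      ((t.truncLT (a + n + 1)).map e) (by rw [← Functor.map_comp, he])
    obtain ⟨C₁, iC, rC, hC, hC'⟩ := split_of_heart t (a + n + 1)
      ((t.truncGE (a + n + 1)).obj X)
      ((t.truncGE (a + n + 1)).map e) (by rw [← Functor.map_comp, he])
    exact split_of_triangle hT ((t.triangleLTGE (a + n + 1)).map e) he iA rA hA hA' iC rC hC hC'

theorem isIdempotentComplete [IsTriangulated C] (hb : ∀ X : C, t.bounded X) : IsIdempotentComplete C := by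
  refine ⟨fun X e he => ?_⟩
  obtain ⟨⟨a, ha⟩, ⟨b, hb'⟩⟩ := hb X
  have h1 : t.IsLE X (a + ((b - a).toNat : ℤ)) := t.isLE_of_le X b _ (by lia)
  exact split_of_width t (b - a).toNat a X e he

end Helper5.KaroubiT
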