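import Mathlib

open CategoryTheory CategoryTheory.Limits CategoryTheory.Pretriangulated

namespace Helper5.Postnikov

universe v u
variable {D : Type u} [Category.{v} D] [Preadditive D] [HasZeroObject D] [HasShift D ℤ]
  [∀ n : ℤ, (shiftFunctor D n).Additive] [Pretriangulated D]

/-- In a distinguished triangle `Y' ⟶ X ⟶ Y ⟶ Y'⟦1⟧`, a morphism `φ : W ⟶ Y'` killed by the
first map vanishes as soon as `Hom(W⟦1⟧, Y) = 0`. -/
lemma eq_zero_of_triangle {Y' X₁ Y : D} {a' : Y' ⟶ X₁} {b : X₁ ⟶ Y} {c : Y ⟶ Y'⟦(1 : ℤ)⟧}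
    (hT : Triangle.mk a' b c ∈ distTriang D) {W : D} (φ : W ⟶ Y') (h : φ ≫ a' = 0)
    (hW : ∀ g : W⟦(1 : ℤ)⟧ ⟶ Y, g = 0) : φ = 0 := by
  obtain ⟨g, hg⟩ : ∃ g : W⟦(1 : ℤ)⟧ ⟶ Y, φ⟦(1 : ℤ)⟧' = g ≫ c :=
    Triangle.coyoneda_exact₃ (Triangle.mk a' b c).rotate (rot_of_distTriang _ hT) (φ⟦(1 : ℤ)⟧')
      (by
        change φ⟦(1 : ℤ)⟧' ≫ (-a'⟦(1 : ℤ)⟧') = 0
        rw [Preadditive.comp_neg, ← Functor.map_comp, h, Functor.map_zero, neg_zero])
  apply (shiftFunctor D (1 : ℤ)).map_injective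
  rw [hg, hW g, zero_comp, Functor.map_zero]

variable (X : ChainComplex D ℕ) (n : ℕ)

structure Stage (k : ℕ) where
  Y : D
  a : Y ⟶ X.X k
  I : ∀ i : ℕ, k + 2 < i → i ≤ n → ∀ s : ℤ, s = (i : ℤ) - k - 2 →
    ∀ φ : (X.X i)⟦s⟧ ⟶ Y, φ = 0
  M : k + 2 ≤ n → ∀ f : X.X (k + 2) ⟶ Y, f ≫ a = 0 → f = 0
  L : k + 1 ≤ n → ∃ b : X.X (k + 1) ⟶ Y, b ≫ a = X.d (k + 1) k

variable {X n}

structure Step {k : ℕ} (S : Stage X n k) where
  b : X.X (k + 1) ⟶ S.Y
  hb : k + 1 ≤ n → b ≫ S.a = X.d (k + 1) k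
  Y' : D
  a' : Y' ⟶ X.X (k + 1)
  c : S.Y ⟶ Y'⟦(1 : ℤ)⟧
  dist : Triangle.mk a' b c ∈ distTriang D

lemma nonempty_step {k : ℕ} (S : Stage X n k) : Nonempty (Step S) := by
  by_cases h : k + 1 ≤ n
  · obtain ⟨b, hb⟩ := S.L h
    obtain ⟨Y', a', c, hT⟩ := distinguished_cocone_triangle₁ b
    exact ⟨⟨b, fun _ => hb, Y', a', c, hT⟩⟩
  · obtain ⟨Y', a', c, hT⟩ := distinguished_cocone_triangle₁ (0 : X.X (k + 1) ⟶ S.Y)
    exact ⟨⟨0, fun h' => absurd h' h, Y', a', c, hT⟩⟩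

variable (hX : ∀ i j : ℕ, j + 2 < i → i ≤ n →
  ∀ φ : (shiftFunctor D ((i : ℤ) - j - 2)).obj (X.X i) ⟶ X.X j, φ = 0)

include hX in
/-- The next stage. -/
def Step.toStage {k : ℕ} {S : Stage X n k} (T : Step S) : Stage X n (k + 1) where
  Y := T.Y'
  a := T.a'
  I := by
    intro i hi hin s hs φ
    apply eq_zero_of_triangle T.dist φ
    · subst hs
      exact hX i (k + 1) hi hin (φ ≫ T.a')
    · intro g
      have h0 : ((shiftFunctorAdd' D s 1 (s + 1) rfl).app (X.X i)).hom ≫ g = 0 :=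
        S.I i (by lia) hin (s + 1) (by rw [hs]; push_cast; ring) _
      rw [← cancel_epi ((shiftFunctorAdd' D s 1 (s + 1) rfl).app (X.X i)).hom, h0, comp_zero]
  M := by
    intro hk f hf
    apply eq_zero_of_triangle T.dist f hf
    intro g
    exact S.I (k + 1 + 2) (by lia) hk 1 (by push_cast; ring) g
  L := by
    intro hk
    have h0 : X.d (k + 1 + 1) (k + 1) ≫ T.b = 0 := by
      apply S.M hk
      rw [Category.assoc, T.hb (by lia), X.d_comp_d]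
    obtain ⟨b', hb'⟩ := Triangle.coyoneda_exact₂ _ T.dist (X.d (k + 1 + 1) (k + 1)) h0
    exact ⟨b', hb'.symm⟩

include hX in
def stage0 : Stage X n 0 where
  Y := X.X 0
  a := 𝟙 _
  I := by
    intro i hi hin s hs φ
    subst hs
    exact hX i 0 hi hin φ
  M := by
    intro _ f hf
    rwa [Category.comp_id] at hf
  L := fun _ => ⟨X.d 1 0, Category.comp_id _⟩

noncomputable def stage : (k : ℕ) → Stage X n k
  | 0 => stage0 hX
  | k + 1 => (Classical.choice (nonempty_step (stage k))).toStage hX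

include hX in
theorem exists_postnikov :
    ∃ (Y : ℕ → D) (a : ∀ k, Y k ⟶ X.X k) (b : ∀ k, X.X (k + 1) ⟶ Y k)
      (c : ∀ k, Y k ⟶ (shiftFunctor D (1 : ℤ)).obj (Y (k + 1))),
      IsIso (a 0) ∧ ∀ k, k < n →
        Triangle.mk (a (k + 1)) (b k) (c k) ∈ distinguishedTriangles ∧
          b k ≫ a k = X.d (k + 1) k := by
  refine ⟨fun k => (stage hX k).Y, fun k => (stage hX k).a,
    fun k => (Classical.choice (nonempty_step (stage hX k))).b,
    fun k => (Classical.choice (nonempty_step (stage hX k))).c, ?_, ?_⟩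
  · change IsIso (𝟙 (X.X 0))
    infer_instance
  · intro k hk
    exact ⟨(Classical.choice (nonempty_step (stage hX k))).dist,
      (Classical.choice (nonempty_step (stage hX k))).hb (by lia)⟩

end Helper5.Postnikov
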