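import Mathlib

open CategoryTheory Category Limits Pretriangulated ZeroObject

universe w v v' u u'

namespace Helper5.Verdier

variable {T : Type u} [Category.{v} T] [Preadditive T] [HasZeroObject T] [HasShift T ℤ]
  [∀ n : ℤ, (shiftFunctor T n).Additive] [Pretriangulated T]
  (U : ObjectProperty T)
  {E : Type u'} [Category.{v'} E] [Preadditive E]
  (Q : T ⥤ E) [Q.Additive]

lemma isZero_obj_of_prop [U.IsTriangulated] [Q.IsLocalization U.trW] (X : T) (hX : U X) :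
    IsZero (Q.obj X) := by
  have h : U.trW (0 : X ⟶ 0) :=
    ObjectProperty.trW.mk' (P := U) (contractible_distinguished X) hX
  have := Localization.inverts Q U.trW _ h
  have h2 : Q.map (0 : X ⟶ 0) = 0 := Q.map_zero _ _
  rw [IsZero.iff_id_eq_zero, ← IsIso.hom_inv_id (Q.map (0 : X ⟶ 0))]
  generalize Q.map (0 : X ⟶ 0) = q at *
  subst h2
  rw [zero_comp]

lemma prop_of_isZero_obj [IsTriangulated T] [U.IsTriangulated] [U.IsClosedUnderIsomorphisms]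
    [U.IsStableUnderRetracts] [Q.IsLocalization U.trW] (X : T) (hX : IsZero (Q.obj X)) :
    U X := by
  have h : Q.map (𝟙 X) = Q.map 0 := hX.eq_of_src _ _
  rw [MorphismProperty.map_eq_iff_postcomp Q U.trW] at h
  obtain ⟨Z, s, hs, eq⟩ := h
  rw [id_comp, zero_comp] at eq
  subst eq
  obtain ⟨C, g, h, hT, hC⟩ := hs
  have h0 : 𝟙 (X⟦(1 : ℤ)⟧) ≫ (Triangle.mk (0 : X ⟶ Z) g h).rotate.mor₃ = 0 := by
    change 𝟙 (X⟦(1 : ℤ)⟧) ≫ (-(shiftFunctor T (1 : ℤ)).map (0 : X ⟶ Z)) = 0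
    rw [(shiftFunctor T (1 : ℤ)).map_zero, neg_zero, comp_zero]
  obtain ⟨r, hr⟩ := Triangle.coyoneda_exact₃ _ (rot_of_distTriang _ hT) (𝟙 (X⟦(1 : ℤ)⟧)) h0
  have h1 : U (X⟦(1 : ℤ)⟧) := U.prop_of_retract ⟨r, h, hr.symm⟩ hC
  have h2 : U ((X⟦(1 : ℤ)⟧)⟦(-1 : ℤ)⟧) := U.le_shift (-1) _ h1
  exact U.prop_of_iso ((shiftEquiv T (1 : ℤ)).unitIso.symm.app X) h2

lemma isZero_obj_iff [IsTriangulated T] [U.IsTriangulated] [U.IsClosedUnderIsomorphisms]
    [U.IsStableUnderRetracts] [Q.IsLocalization U.trW] (X : T) :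
    IsZero (Q.obj X) ↔ U X :=
  ⟨prop_of_isZero_obj U Q X, isZero_obj_of_prop U Q X⟩

end Helper5.Verdier
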