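import Mathlib
import Groth.Agent.Lib.Helper5.DCat.Verdier

open CategoryTheory Category Limits Pretriangulated ZeroObject

universe w v v' u u'

namespace Helper5.Verdier

variable {A : Type w} [CommRing A] (S : Submonoid A)
  {T : Type u} [Category.{v} T] [Preadditive T] [Linear A T] [HasZeroObject T] [HasShift T ℤ]
  [∀ n : ℤ, (shiftFunctor T n).Additive] [∀ n : ℤ, (shiftFunctor T n).Linear A]
  [Pretriangulated T]

/-- Objects killed by an element of `S`. -/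
def killed : ObjectProperty T := fun Z => ∃ s : A, s ∈ S ∧ s • 𝟙 Z = 0

lemma killed_iff (Z : T) : killed S Z ↔ ∃ s : A, s ∈ S ∧ s • 𝟙 Z = 0 := Iff.rfl

omit [HasZeroObject T] [HasShift T ℤ] [∀ n : ℤ, (shiftFunctor T n).Additive]
  [∀ n : ℤ, (shiftFunctor T n).Linear A] [Pretriangulated T] in
lemma smul_eq_zero_of_killed {Z : T} {s : A} (hs : s • 𝟙 Z = 0) {X : T} (f : X ⟶ Z) :
    s • f = 0 := by
  rw [← comp_id f, ← Linear.comp_smul, hs, comp_zero]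

omit [HasZeroObject T] [HasShift T ℤ] [∀ n : ℤ, (shiftFunctor T n).Additive]
  [∀ n : ℤ, (shiftFunctor T n).Linear A] [Pretriangulated T] in
lemma smul_eq_zero_of_killed' {Z : T} {s : A} (hs : s • 𝟙 Z = 0) {X : T} (f : Z ⟶ X) :
    s • f = 0 := by
  rw [← id_comp f, ← Linear.smul_comp, hs, zero_comp]

instance : (killed (T := T) S).IsClosedUnderIsomorphisms where
  of_iso {X Y} e hX := by
    obtain ⟨s, hs, h⟩ := hX
    refine ⟨s, hs, ?_⟩
    rw [← e.inv_hom_id, ← Linear.smul_comp, smul_eq_zero_of_killed h, zero_comp]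

instance : (killed (T := T) S).IsStableUnderRetracts where
  of_retract {X Y} r hY := by
    obtain ⟨s, hs, h⟩ := hY
    refine ⟨s, hs, ?_⟩
    rw [← r.retract, ← Linear.smul_comp, smul_eq_zero_of_killed h, zero_comp]

instance : (killed (T := T) S).IsTriangulated where
  exists_zero := ⟨0, isZero_zero T, 1, S.one_mem, (isZero_zero T).eq_of_src _ _⟩
  isStableUnderShiftBy n :=
    { le_shift := fun X hX => by
        obtain ⟨s, hs, h⟩ := hX
        refine ⟨s, hs, ?_⟩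
        change s • 𝟙 ((shiftFunctor T n).obj X) = 0
        rw [← (shiftFunctor T n).map_id, ← Functor.map_smul, h, Functor.map_zero] }
  ext₂' Tr hT h₁ h₃ := by
    apply ObjectProperty.le_isoClosure
    obtain ⟨s, hs, h⟩ := h₁
    obtain ⟨t, ht, h'⟩ := h₃
    refine ⟨s * t, S.mul_mem hs ht, ?_⟩
    have h0 : (t • 𝟙 Tr.obj₂) ≫ Tr.mor₂ = 0 := by
      rw [Linear.smul_comp, id_comp, smul_eq_zero_of_killed h']
    obtain ⟨a, ha⟩ : ∃ a : Tr.obj₂ ⟶ Tr.obj₁, t • 𝟙 Tr.obj₂ = a ≫ Tr.mor₁ :=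
      Triangle.coyoneda_exact₂ _ hT _ h0
    rw [mul_smul, ha, ← Linear.smul_comp, smul_eq_zero_of_killed h, zero_comp]

/-- The cone of `f • 𝟙 X` is killed by `f ^ 2`. -/
lemma killed_cone (X : T) (f : A) (hf : f ∈ S) (Z : T) (g : X ⟶ Z) (h : Z ⟶ X⟦(1 : ℤ)⟧)
    (hT : Triangle.mk (f • 𝟙 X) g h ∈ distTriang T) : killed S Z := by
  refine ⟨f * f, S.mul_mem hf hf, ?_⟩
  have h0 : (f • 𝟙 Z) ≫ h = 0 := by
    have h1 : h ≫ (shiftFunctor T (1 : ℤ)).map (f • 𝟙 X) = 0 :=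
      comp_distTriang_mor_zero₃₁ _ hT
    rw [Functor.map_smul, CategoryTheory.Functor.map_id, Linear.comp_smul, comp_id] at h1
    rw [Linear.smul_comp, id_comp, h1]
  obtain ⟨a, ha⟩ : ∃ a : Z ⟶ X, f • 𝟙 Z = a ≫ g := Triangle.coyoneda_exact₃ _ hT _ h0
  rw [mul_smul, ha, ← Linear.comp_smul]
  have h2 : f • g = 0 := by
    have h1 : (f • 𝟙 X) ≫ g = 0 := comp_distTriang_mor_zero₁₂ _ hT
    rwa [Linear.smul_comp, id_comp] at h1
  rw [h2, comp_zero]

variable [IsTriangulated T]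
  (U : ObjectProperty T) [U.IsTriangulated] [U.IsClosedUnderIsomorphisms] [U.IsStableUnderRetracts]
  {E : Type u'} [Category.{v'} E] [Preadditive E] [Linear A E]
  (Q : T ⥤ E) [Q.Additive] [Q.Linear A] [Q.IsLocalization U.trW]

theorem isLocalizedModule_mapLinearMap
    (hU : ∀ (X : T) (f : A), f ∈ S → ∀ (Z : T) (g : X ⟶ Z) (h : Z ⟶ X⟦(1 : ℤ)⟧),
      Triangle.mk (f • 𝟙 X) g h ∈ distTriang T → U Z)
    (hle : U ≤ killed S) (X Y : T) :
    IsLocalizedModule S (Q.mapLinearMap A : (X ⟶ Y) →ₗ[A] (Q.obj X ⟶ Q.obj Y)) where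
  map_units s := by
    obtain ⟨Z, g, h, hT⟩ := distinguished_cocone_triangle ((s : A) • 𝟙 Y)
    have hW : U.trW ((s : A) • 𝟙 Y) := ⟨Z, g, h, hT, hU Y s s.2 Z g h hT⟩
    have hiso : IsIso (Q.map ((s : A) • 𝟙 Y)) := Localization.inverts Q U.trW _ hW
    rw [Module.End.isUnit_iff]
    have hmap : ∀ φ : Q.obj X ⟶ Q.obj Y,
        (algebraMap A (Module.End A (Q.obj X ⟶ Q.obj Y)) s) φ = φ ≫ Q.map ((s : A) • 𝟙 Y) := by
      intro φ
      rw [Functor.map_smul, CategoryTheory.Functor.map_id, Linear.comp_smul, comp_id]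
      rfl
    constructor
    · intro φ ψ hφψ
      rw [hmap, hmap] at hφψ
      exact (cancel_mono _).1 hφψ
    · intro ψ
      refine ⟨ψ ≫ inv (Q.map ((s : A) • 𝟙 Y)), ?_⟩
      rw [hmap, assoc, IsIso.inv_hom_id, comp_id]
  surj y := by
    obtain ⟨φ, hφ⟩ := Localization.exists_leftFraction Q U.trW y
    obtain ⟨C, p, q, hT, hC⟩ := φ.hs
    obtain ⟨c, hc, hc0⟩ := hle C hC
    have h0 : (c • 𝟙 φ.Y') ≫ p = 0 := by
      rw [Linear.smul_comp, id_comp, smul_eq_zero_of_killed hc0]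
    obtain ⟨t, ht⟩ : ∃ t : φ.Y' ⟶ Y, c • 𝟙 φ.Y' = t ≫ φ.s :=
      Triangle.coyoneda_exact₂ _ hT _ h0
    refine ⟨⟨φ.f ≫ t, ⟨c, hc⟩⟩, ?_⟩
    have := Localization.inverts Q U.trW _ φ.hs
    change c • y = Q.map (φ.f ≫ t)
    rw [hφ, ← cancel_mono (Q.map φ.s), Linear.smul_comp,
      MorphismProperty.LeftFraction.map_comp_map_s, Q.map_comp, assoc, ← Q.map_comp, ← ht,
      Functor.map_smul, CategoryTheory.Functor.map_id, Linear.comp_smul, comp_id]
  exists_of_eq {x₁ x₂} h := by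
    change Q.map x₁ = Q.map x₂ at h
    rw [MorphismProperty.map_eq_iff_postcomp Q U.trW] at h
    obtain ⟨Y', s, hs, eq⟩ := h
    obtain ⟨C, p, q, hT, hC⟩ := hs
    have hT' := inv_rot_of_distTriang _ hT
    have h0 : (x₁ - x₂) ≫ s = 0 := by rw [Preadditive.sub_comp, eq, sub_self]
    obtain ⟨e, w, he⟩ : ∃ (e : X ⟶ C⟦(-1 : ℤ)⟧) (w : C⟦(-1 : ℤ)⟧ ⟶ Y), x₁ - x₂ = e ≫ w := by
      obtain ⟨e, he⟩ := Triangle.coyoneda_exact₂ _ hT' (x₁ - x₂) h0
      exact ⟨e, _, he⟩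
    obtain ⟨c, hc, hc0⟩ := hle _ (U.le_shift (-1 : ℤ) _ hC)
    refine ⟨⟨c, hc⟩, ?_⟩
    change c • x₁ = c • x₂
    rw [← sub_eq_zero, ← smul_sub, he, ← Linear.smul_comp]
    have : c • e = 0 := smul_eq_zero_of_killed hc0 e
    rw [this, zero_comp]

end Helper5.Verdier
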